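import Mathlib
import Groth.Prelude.Def_AnPts
import Groth.Prelude.Def_AnHol
import Groth.Agent.Lib.Helper7.AnPts4

set_option linter.style.haveILetI false
set_option linter.unusedVariables false
set_option linter.unusedSectionVars false
set_option autoImplicit false
set_option backward.isDefEq.respectTransparency.types false
set_option synthInstance.maxHeartbeats 400000
set_option maxHeartbeats 800000

open AlgebraicGeometry CategoryTheory TopologicalSpace Opposite An Topology
open Groth.Agent.Helper7.AnPts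

namespace Groth.Agent.Helper7.AnHol

theorem differentiable_eval {n : ℕ} (P : MvPolynomial (Fin n) ℂ) :
    Differentiable ℂ (fun v : Fin n → ℂ => MvPolynomial.eval v P) := by
  induction P using MvPolynomial.induction_on with
  | C a =>
    simp only [MvPolynomial.eval_C]
    exact differentiable_const _
  | add p q hp hq =>
    simp only [map_add]
    exact hp.add hq
  | mul_X p i hp =>
    simp only [map_mul, MvPolynomial.eval_X]
    exact hp.mul (differentiable_apply i)

section Reg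

variable {X : Scheme.{0}} [X.Over SC]

set_option backward.isDefEq.respectTransparency false in
/-- A regular function on an open subset is, near any complex point, a quotient of global
functions. -/
theorem exists_quotient_near [IsAffine X] (W : X.Opens) (s : Γ(X, W)) (y₀ : Pts X)
    (hy₀ : y₀.pt ∈ W) :
    ∃ (f a : Γ(X, ⊤)) (k : ℕ), y₀.evTop f ≠ 0 ∧
      ∀ y : Pts X, y.evTop f ≠ 0 → ∃ hy : y.pt ∈ W,
        y.ev W hy s * (y.evTop f) ^ k = y.evTop a := by
  obtain ⟨g, hgU, hxg⟩ := (isAffineOpen_top X).exists_basicOpen_le ⟨y₀.pt, hy₀⟩ (Opens.mem_top _)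
  have hloc := (isAffineOpen_top X).isLocalization_basicOpen g
  obtain ⟨⟨a, ⟨_, n, rfl⟩⟩, h⟩ := IsLocalization.surj (Submonoid.powers g)
    (X.presheaf.map (homOfLE hgU).op s)
  replace h : X.presheaf.map (homOfLE hgU).op s *
      X.presheaf.map (homOfLE (le_top : X.basicOpen g ≤ ⊤)).op (g ^ n) =
      X.presheaf.map (homOfLE (le_top : X.basicOpen g ≤ ⊤)).op a := h
  have key : ∀ y : Pts X, ∀ hy : y.pt ∈ X.basicOpen g,
      y.ev W (hgU hy) s * (y.evTop g) ^ n = y.evTop a := by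
    intro y hy
    have h2 := congr(evHom y (X.basicOpen g) hy $h)
    rw [map_mul, ← ev_eq, ← ev_eq, ← ev_eq, Groth.Agent.Helper7.AnPts.ev_res y hgU hy s,
      Groth.Agent.Helper7.AnPts.ev_res y le_top hy,
      Groth.Agent.Helper7.AnPts.ev_res y le_top hy] at h2
    have h3 : y.ev ⊤ (Opens.mem_top _) (g ^ n) = y.evTop g ^ n := by
      rw [ev_eq, map_pow]
      rfl
    rw [h3] at h2
    exact h2
  refine ⟨g, a, n, (mem_basicOpen_iff y₀ g).mp hxg, ?_⟩
  intro y hy
  have hy' : y.pt ∈ X.basicOpen g := (mem_basicOpen_iff y g).mpr hy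
  exact ⟨hgU hy', key y hy'⟩

end Reg

section Aff

variable (n : ℕ)

/-- The coordinate map of affine space on complex points. -/
noncomputable def crd (x : Pts (𝔸(Fin n; SC))) : Fin n → ℂ :=
  fun i => x.evTop (AffineSpace.coord SC i)

theorem evTop_eq_eval (y : Pts (𝔸(Fin n; SC))) (P : MvPolynomial (Fin n) ℂ) :
    y.evTop (MvPolynomial.eval₂Hom (strHom (𝔸(Fin n; SC))) (AffineSpace.coord SC) P) =
      MvPolynomial.eval (crd n y) P := by
  rw [evTop_eq, evTopHom_eval₂Hom]
  rfl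

/-- regular functions are holomorphic in the coordinates -/
theorem exists_differentiableAt_of_section (W : (𝔸(Fin n; SC)).Opens) (s : Γ(𝔸(Fin n; SC), W))
    (y₀ : Pts (𝔸(Fin n; SC))) (hy₀ : y₀.pt ∈ W) :
    ∃ H : (Fin n → ℂ) → ℂ, DifferentiableAt ℂ H (crd n y₀) ∧
      ∀ᶠ y in 𝓝 y₀, ∀ hy : y.pt ∈ W, y.ev W hy s = H (crd n y) := by
  obtain ⟨f, a, k, hf0, hfa⟩ := exists_quotient_near W s y₀ hy₀
  obtain ⟨Pf, rfl⟩ := (eval₂Hom_coord_bijective n).2 f
  obtain ⟨Pa, rfl⟩ := (eval₂Hom_coord_bijective n).2 a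
  refine ⟨fun v => MvPolynomial.eval v Pa * ((MvPolynomial.eval v Pf) ^ k)⁻¹, ?_, ?_⟩
  · have h1 : DifferentiableAt ℂ (fun v : Fin n → ℂ => MvPolynomial.eval v Pa) (crd n y₀) :=
      (differentiable_eval Pa).differentiableAt
    have h2 : DifferentiableAt ℂ (fun v : Fin n → ℂ => (MvPolynomial.eval v Pf) ^ k) (crd n y₀) :=
      ((differentiable_eval Pf).differentiableAt).pow k
    have h3 : (MvPolynomial.eval (crd n y₀) Pf) ^ k ≠ 0 := by
      apply pow_ne_zero
      rw [← evTop_eq_eval]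
      exact hf0
    exact h1.mul (h2.fun_inv h3)
  · have hopen : IsOpen {y : Pts (𝔸(Fin n; SC)) | y.evTop
        (MvPolynomial.eval₂Hom (strHom (𝔸(Fin n; SC))) (AffineSpace.coord SC) Pf) ≠ 0} :=
      isOpen_ne_fun (continuous_evTop _) continuous_const
    filter_upwards [hopen.mem_nhds hf0] with y hy hyW
    obtain ⟨hy', e⟩ := hfa y hy
    rw [evTop_eq_eval, evTop_eq_eval] at e
    rw [evTop_eq_eval] at hy
    show y.ev W hyW s = MvPolynomial.eval (crd n y) Pa * ((MvPolynomial.eval (crd n y) Pf) ^ k)⁻¹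
    rw [← e, mul_assoc, mul_inv_cancel₀ (pow_ne_zero k hy), mul_one]

/-- The local property of functions on opens of complex affine space used in the induction. -/
def LocHol (V : Opens (top (𝔸(Fin n; SC)))) (h : V → ℂ) : Prop :=
  ∀ y₀ : V, ∃ H : (Fin n → ℂ) → ℂ, DifferentiableAt ℂ H (crd n y₀.1) ∧
    ∀ᶠ y in 𝓝 (y₀.1 : top (𝔸(Fin n; SC))), ∀ hy : y ∈ V, h ⟨y, hy⟩ = H (crd n y)

theorem locHol_of_isChartFun (V : Opens (top (𝔸(Fin n; SC)))) (k : V → ℂ)
    (hk : IsChartFun V k) : LocHol n V k := by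
  obtain ⟨W, hW, m, s, V', G', hV', hG', hk'⟩ := hk
  intro y₀
  have hsec : ∀ i : Fin m, ∃ H : (Fin n → ℂ) → ℂ, DifferentiableAt ℂ H (crd n y₀.1) ∧
      ∀ᶠ y in 𝓝 (y₀.1 : Pts (𝔸(Fin n; SC))), ∀ hy : y.pt ∈ W, y.ev W hy (s i) = H (crd n y) :=
    fun i => exists_differentiableAt_of_section n W (s i) y₀.1 (hW y₀)
  choose H hHd hHe using hsec
  refine ⟨fun v => G' (fun i => H i v), ?_, ?_⟩
  · have hval : (fun i => H i (crd n y₀.1)) = fun i => Pts.ev y₀.1 W (hW y₀) (s i) := by
      funext i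
      exact ((hHe i).self_of_nhds (hW y₀)).symm
    have h1 : DifferentiableAt ℂ G' (fun i => H i (crd n y₀.1)) := by
      rw [hval]
      exact (hG' _ (hk' y₀).1).differentiableAt (hV'.mem_nhds (hk' y₀).1)
    have h2 : DifferentiableAt ℂ (fun v => (fun i => H i v)) (crd n y₀.1) :=
      differentiableAt_pi.mpr hHd
    exact DifferentiableAt.comp (crd n y₀.1) h1 h2
  · have hall : ∀ᶠ y in 𝓝 (y₀.1 : Pts (𝔸(Fin n; SC))), ∀ i : Fin m,
        ∀ hy : y.pt ∈ W, y.ev W hy (s i) = H i (crd n y) :=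
      Filter.eventually_all.mpr hHe
    filter_upwards [hall] with y hy hyV
    have h3 := (hk' ⟨y, hyV⟩).2
    refine h3.trans ?_
    congr 1
    funext i
    exact hy i (hW ⟨y, hyV⟩)

theorem locHol_of_chartAlg (V : Opens (top (𝔸(Fin n; SC)))) (h : V → ℂ)
    (hh : h ∈ chartAlg V) : LocHol n V h := by
  unfold chartAlg at hh
  induction hh using Algebra.adjoin_induction with
  | mem k hk => exact locHol_of_isChartFun n V k hk
  | algebraMap r =>
    intro y₀
    refine ⟨fun _ => r, differentiableAt_const _, Filter.Eventually.of_forall ?_⟩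
    intro y hy
    rfl
  | add a b _ _ ha hb =>
    intro y₀
    obtain ⟨Ha, hHa, hea⟩ := ha y₀
    obtain ⟨Hb, hHb, heb⟩ := hb y₀
    refine ⟨fun v => Ha v + Hb v, hHa.add hHb, ?_⟩
    filter_upwards [hea, heb] with y h1 h2 hy
    exact congrArg₂ (· + ·) (h1 hy) (h2 hy)
  | mul a b _ _ ha hb =>
    intro y₀
    obtain ⟨Ha, hHa, hea⟩ := ha y₀
    obtain ⟨Hb, hHb, heb⟩ := hb y₀
    refine ⟨fun v => Ha v * Hb v, hHa.mul hHb, ?_⟩
    filter_upwards [hea, heb] with y h1 h2 hy
    exact congrArg₂ (· * ·) (h1 hy) (h2 hy)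

theorem S4307_main (U : TopologicalSpace.Opens (An.Pts (𝔸(Fin n; An.SC)))) (g : U → ℂ) :
    (An.holPred (𝔸(Fin n; An.SC))).pred g ↔
      ∃ G : (Fin n → ℂ) → ℂ,
        DifferentiableOn ℂ G ((fun (x : An.Pts (𝔸(Fin n; An.SC))) (i : Fin n) =>
          x.evTop (AffineSpace.coord An.SC i)) '' (U : Set (An.Pts (𝔸(Fin n; An.SC))))) ∧
        ∀ x : U, g x = G (fun i =>
          (x : An.Pts (𝔸(Fin n; An.SC))).evTop (AffineSpace.coord An.SC i)) := by
  classical
  have hhomeo := S4183_main n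
  let e : Pts (𝔸(Fin n; SC)) ≃ₜ (Fin n → ℂ) := hhomeo.homeomorph
  have he : ∀ x, e x = crd n x := fun x => rfl
  constructor
  · intro hg
    let G : (Fin n → ℂ) → ℂ := fun v => if h : e.symm v ∈ U then g ⟨e.symm v, h⟩ else 0
    have hG : ∀ x : U, g x = G (crd n x.1) := by
      intro x
      have h1 : e.symm (crd n x.1) = x.1 := by
        rw [← he]
        exact e.symm_apply_apply _
      have h2 : e.symm (crd n x.1) ∈ U := by
        rw [h1]
        exact x.2
      show g x = if h : e.symm (crd n x.1) ∈ U then g ⟨e.symm (crd n x.1), h⟩ else 0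
      rw [dif_pos h2]
      congr 1
      exact Subtype.ext h1.symm
    refine ⟨G, ?_, hG⟩
    rintro _ ⟨x, hx, rfl⟩
    apply DifferentiableAt.differentiableWithinAt
    obtain ⟨V, hxV, i, hV⟩ := hg ⟨x, hx⟩
    obtain ⟨H, hHd, hHe⟩ := locHol_of_chartAlg n V _ hV ⟨x, hxV⟩
    refine hHd.congr_of_eventuallyEq ?_
    -- G = H near crd x
    have hVn : ∀ᶠ y in 𝓝 x, y ∈ V := V.2.mem_nhds hxV
    have h3 : ∀ᶠ y in 𝓝 x, G (crd n y) = H (crd n y) := by
      filter_upwards [hHe, hVn] with y h1 h2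
      have h4 := h1 h2
      rw [← h4]
      have hyU : y ∈ U := (i ⟨y, h2⟩).2
      rw [← hG ⟨y, hyU⟩]
      rfl
    have h5 : Filter.Tendsto e.symm (𝓝 (crd n x)) (𝓝 x) := by
      have := e.symm.continuous.tendsto (crd n x)
      rw [← he, e.symm_apply_apply] at this
      rw [← he]
      exact this
    have h6 := h5.eventually h3
    filter_upwards [h6] with v hv
    have h7 : crd n (e.symm v) = v := by
      rw [← he]
      exact e.apply_symm_apply v
    rw [h7] at hv
    exact hv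
  · rintro ⟨G, hGd, hG⟩
    apply holPred_of_chartAlg
    apply Algebra.subset_adjoin
    refine ⟨⊤, fun _ => trivial, n, fun i => AffineSpace.coord SC i,
      (fun (x : An.Pts (𝔸(Fin n; An.SC))) (i : Fin n) =>
          x.evTop (AffineSpace.coord An.SC i)) '' (U : Set (An.Pts (𝔸(Fin n; An.SC)))), G, ?_, hGd,
      fun x => ⟨⟨x.1, x.2, rfl⟩, hG x⟩⟩
    exact hhomeo.isOpenMap _ U.2

end Aff

end Groth.Agent.Helper7.AnHol
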